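import Groth.Agent.S1063
import Groth.Agent.GrTildeLib.TensLift
import Groth.Agent.Formal2VBLib.Hom
import Groth.Agent.ExtShLib.Hcx
import Groth.Agent.TensorAssocLib.Derived
import Groth.Agent.MiscFlat6.TildeFin
import Mathlib.LinearAlgebra.Contraction

/-!
# `Hom(L, G) = G ⊗ Hom(L, O)` for finite locally free `L`
-/

set_option autoImplicit false
set_option linter.style.haveILetI false
set_option maxRecDepth 8000
set_option maxHeartbeats 1000000
set_option backward.isDefEq.respectTransparency false
set_option backward.isDefEq.respectTransparency.types false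

noncomputable section

universe u

open CategoryTheory CategoryTheory.Limits AlgebraicGeometry TopologicalSpace Opposite
open scoped TensorProduct
open ProjFormLib (ger res ger_res ger_smul ger_add ger_map exists_ger section_ext)
open KFlatLib (tens shTm stalkTensorLin)
open CohCmpLib (stk homMod homSec hVal happ evS evS_ger evS_evMod evMod hVal_res)

namespace Groth.Agent.HomLocFreeLib

variable {X : Scheme.{u}}

local notation "OX" => Coh.structureModule X

theorem exists_mu (G : X.Modules) : ∃ φ : tens OX G ⟶ G,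
    ∀ (V : X.Opens) (s : Γ(OX, V)) (g : Γ(G, V)), φ.app V (shTm s g) = (show Γ(X, V) from s) • g :=
  GrTildeLib.exists_tens_hom (M := OX) (N := G) (fun V s g => (show Γ(X, V) from s) • g)
    (fun V m m' n => add_smul (show Γ(X, V) from m) (show Γ(X, V) from m') n)
    (fun V m n n' => smul_add _ _ _)
    (fun V r m n => mul_smul r (show Γ(X, V) from m) n)
    (fun V r m n => smul_comm _ _ _)
    (fun V W h m n => Scheme.Modules.map_smul G (homOfLE h) (show Γ(X, W) from m) n)

/-- Multiplication. -/
def mu (G : X.Modules) : tens OX G ⟶ G := (exists_mu G).choose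

theorem evS_mu (G : X.Modules) (y : X) (n : stk G y) (a : stk OX y) :
    evS (mu G) y n a = S1063.ψ X y a • n := by
  obtain ⟨V, hy, g, rfl⟩ := exists_ger G y n
  obtain ⟨W, hyW, r, rfl⟩ := exists_ger OX y a
  rw [← ger_res G (inf_le_left : V ⊓ W ≤ V) y ⟨hy, hyW⟩ g, ← ger_res OX (inf_le_right : V ⊓ W ≤ W) y ⟨hy, hyW⟩ r,
    evS_ger, show (mu G).app _ (shTm _ _) = _ from (exists_mu G).choose_spec _ _ _, ger_smul]
  exact congrArg (· • _) (S1063.ψ_ger y _ _).symm

variable (L G : X.Modules)

/-- A section of `G` times a local form on `L`. -/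
def pairSec (V : X.Opens) (g : Γ(G, V)) (h : Γ(homMod L OX, V)) : Γ(homMod L G, V) :=
  show homSec L G V from
    ⟨fun y => (evS (mu G) y.1 (ger G y.1 y.2 g)).comp (hVal h y.1 y.2), fun T hT m => by
      refine ⟨(mu G).app T (shTm (happ (res (homMod L OX) hT h) m) (res G hT g)), fun y hy => ?_⟩
      rw [← evS_ger, ger_res, CohCmpLib.ger_happ, hVal_res]
      rfl⟩

theorem hVal_pairSec {V : X.Opens} (g : Γ(G, V)) (h : Γ(homMod L OX, V)) (y : X) (hy : y ∈ V) :
    hVal (pairSec L G V g h) y hy = (evS (mu G) y (ger G y hy g)).comp (hVal h y hy) := rfl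

theorem exists_pairMap : ∃ φ : tens G (homMod L OX) ⟶ homMod L G,
    ∀ (V : X.Opens) (g : Γ(G, V)) (h : Γ(homMod L OX, V)), φ.app V (shTm g h) = pairSec L G V g h :=
  GrTildeLib.exists_tens_hom (M := G) (N := homMod L OX) (pairSec L G)
    (fun V m m' h => CohCmpLib.homMod_ext fun y hy => by
      rw [CohCmpLib.hVal_add, hVal_pairSec, hVal_pairSec, hVal_pairSec, ger_add, map_add, LinearMap.add_comp])
    (fun V m h h' => CohCmpLib.homMod_ext fun y hy => by
      rw [CohCmpLib.hVal_add, hVal_pairSec, hVal_pairSec, hVal_pairSec, CohCmpLib.hVal_add, LinearMap.comp_add])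
    (fun V r m h => CohCmpLib.homMod_ext fun y hy => by
      rw [CohCmpLib.hVal_smul, hVal_pairSec, hVal_pairSec, ger_smul, map_smul, LinearMap.smul_comp])
    (fun V r m h => CohCmpLib.homMod_ext fun y hy => by
      rw [CohCmpLib.hVal_smul, hVal_pairSec, hVal_pairSec, CohCmpLib.hVal_smul, LinearMap.comp_smul])
    (fun V W hVW m h => CohCmpLib.homMod_ext fun y hy => by
      rw [hVal_res, hVal_pairSec, hVal_pairSec, ger_res, hVal_res])

/-- `G ⊗ Hom(L, O) ⟶ Hom(L, G)`. -/
def pairMap : tens G (homMod L OX) ⟶ homMod L G := (exists_pairMap L G).choose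

theorem pairMap_app {V : X.Opens} (g : Γ(G, V)) (h : Γ(homMod L OX, V)) :
    (pairMap L G).app V (shTm g h) = pairSec L G V g h := (exists_pairMap L G).choose_spec V g h

theorem evS_pairMap (y : X) (n : stk G y) (d : stk (homMod L OX) y) :
    evS (evMod L G) y (((DerSch.stalkFunctor X y).map (pairMap L G)).hom (stalkTensorLin G (homMod L OX) y (n ⊗ₜ d))) =
      (evS (mu G) y n).comp (evS (evMod L OX) y d) := by
  obtain ⟨V, hy, g, rfl⟩ := exists_ger G y n
  obtain ⟨W, hyW, h, rfl⟩ := exists_ger (homMod L OX) y d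
  rw [← ger_res G (inf_le_left : V ⊓ W ≤ V) y ⟨hy, hyW⟩ g,
    ← ger_res (homMod L OX) (inf_le_right : V ⊓ W ≤ W) y ⟨hy, hyW⟩ h,
    evS_evMod]
  refine (congrArg (fun z => evS (evMod L G) y (((DerSch.stalkFunctor X y).map (pairMap L G)).hom z))
    (KFlatLib.stalkTensorLin_germ G (homMod L OX) y (show y ∈ V ⊓ W from ⟨hy, hyW⟩) _ _)).trans ?_
  exact ((congrArg (evS (evMod L G) y) ((ger_map (pairMap L G) y _ _).trans
    (congrArg _ (pairMap_app L G _ _)))).trans (evS_evMod _ y _)).trans (hVal_pairSec L G _ _ y _)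

theorem isIso_pairMap (hL : FlatMod.IsFinLocFree L) : IsIso (pairMap L G) := by
  refine KFlatLib.isIso_of_stalks _ fun y => (ConcreteCategory.isIso_iff_bijective _).mpr ?_
  let f := ((DerSch.stalkFunctor X y).map (pairMap L G)).hom
  let R := X.presheaf.stalk y
  haveI : Module.Free R (stk L y) := MiscFlat6.free_stalk_of_isFinLocFree hL y
  haveI : Module.Finite R (stk L y) := by
    obtain ⟨U, n, e, hyU, he⟩ := ProjFormLib.exists_frame hL y
    exact Module.Finite.of_basis (he.basis y hyU)
  haveI : Module.Projective R (stk L y) := Module.Projective.of_free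
  let E₀ := LinearEquiv.ofBijective _ (CohCmpLib.homEv_evMod (P := OX) hL y)
  let D : stk (homMod L OX) y ≃ₗ[R] Module.Dual R (stk L y) :=
    E₀.trans ((LinearEquiv.refl R (stk L y)).arrowCongr (S1063.ψ X y))
  let Θ := ((TensorProduct.congr (LinearEquiv.refl R (stk G y)) D).trans
    (TensorProduct.comm R (stk G y) (Module.Dual R (stk L y)))).trans
    (dualTensorHomEquiv R (stk L y) (stk G y))
  have key : ∀ z : stk G y ⊗[R] stk (homMod L OX) y,
      evS (evMod L G) y (f (stalkTensorLin G (homMod L OX) y z)) = Θ z := by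
    intro z
    induction z using TensorProduct.induction_on with
    | zero => simp only [map_zero]
    | add a b ha hb => simp only [map_add, ha, hb]
    | tmul n d =>
      refine (evS_pairMap L G y n d).trans (LinearMap.ext fun a => ?_)
      change evS (mu G) y n (evS (evMod L OX) y d a) = _
      rw [evS_mu]
      simp [Θ, D, E₀, dualTensorHomEquiv]
      rfl
  have h1 : Function.Bijective (⇑(evS (evMod L G) y) ∘ ⇑f ∘ ⇑(stalkTensorLin G (homMod L OX) y)) :=
    (congrArg Function.Bijective (funext key : _ = ⇑Θ)).mpr Θ.bijective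
  have h2 := (Function.Bijective.of_comp_iff' (CohCmpLib.homEv_evMod (P := G) hL y) _).mp h1
  exact (Function.Bijective.of_comp_iff _ (KFlatLib.stalkTensorLin_bijective _ _ y)).mp h2

theorem pairMap_natural {G' : X.Modules} (φ : G ⟶ G') :
    ((DCoh.tensorBi (X := X)).map φ).app (homMod L OX) ≫ pairMap L G' =
      pairMap L G ≫ Formal2VBLib.hMap (E := L) φ := by
  refine KFlatLib.tens_hom_ext fun V g h => CohCmpLib.homMod_ext fun y hy => LinearMap.ext fun a => ?_
  change hVal ((pairMap L G').app V ((((DCoh.tensorBi (X := X)).map φ).app (homMod L OX)).app V (shTm g h))) y hy a =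
    hVal ((Formal2VBLib.hMap (E := L) φ).app V ((pairMap L G).app V (shTm g h))) y hy a
  rw [KFlatLib.tensorBi_map₁_shTm, pairMap_app, pairMap_app, Formal2VBLib.hVal_hMap, hVal_pairSec, hVal_pairSec,
    LinearMap.comp_apply, LinearMap.comp_apply, evS_mu, evS_mu, map_smul, ger_map]

variable {L} in
/-- `Hom(L, -) = - ⊗ Hom(L, O)`. -/
def dualTensIso (hL : FlatMod.IsFinLocFree L) :
    (DCoh.tensorBi (X := X)).flip.obj (homMod L OX) ≅ PnDualLib.homFun L :=
  haveI := fun G => isIso_pairMap L G hL
  NatIso.ofComponents (fun G => asIso (pairMap L G)) fun {G G'} φ => by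
    show ((DCoh.tensorBi (X := X)).map φ).app (homMod L OX) ≫ pairMap L G' =
      pairMap L G ≫ (PnDualLib.homFun L).map φ
    rw [PnDualLib.homFun_map]
    exact pairMap_natural L G φ

end Groth.Agent.HomLocFreeLib
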