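import Groth.Agent.HomLocFreeLib.Basic
import Groth.Agent.ExtAffLib.Sections
import Groth.Agent.ProjFormLib.Proj

/-!
# Ext sheaves and twists by finite locally free modules
-/

set_option autoImplicit false
set_option linter.style.haveILetI false
set_option maxHeartbeats 1000000
set_option backward.isDefEq.respectTransparency false
set_option backward.isDefEq.respectTransparency.types false

noncomputable section

universe u

open CategoryTheory CategoryTheory.Limits AlgebraicGeometry
open CohCmpLib (homMod)
open PnDualLib (homFun)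

namespace Groth.Agent.HomLocFreeLib

variable {X : Scheme.{u}}

/-- Hom out of a tensor product. -/
def homTensIso (F L : X.Modules) : homFun F ⋙ homFun L ≅ homFun (CohB1.tensorMod F L) :=
  (((HomCohLib.homAdj L).comp (HomCohLib.homAdj F)).ofNatIsoLeft
    ((TensorAssocLib.assocBiX.app F).app L).symm).rightAdjointUniq (HomCohLib.homAdj _)

theorem nonempty_extSh_tensor (F G L : X.Modules) (hL : FlatMod.IsFinLocFree L) (i : ℕ)
    [ModSite.HasSheafHom (O := X.sheaf) F] [ModSite.HasSheafHom (O := X.sheaf) L]
    [ModSite.HasSheafHom (O := X.sheaf) (CohB1.tensorMod F L)]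
    [HasInjectiveResolutions (ModSite.Mod X.sheaf)] :
    Nonempty ((ModSite.extSh (O := X.sheaf) (CohB1.tensorMod F L) i).obj G ≅
      CohB1.tensorMod ((ModSite.extSh (O := X.sheaf) F i).obj G)
        ((ModSite.sheafHom (O := X.sheaf) L).obj (Coh.structureModule X))) := by
  haveI : HasInjectiveResolutions X.Modules := ‹HasInjectiveResolutions (ModSite.Mod X.sheaf)›
  let I := InjectiveResolution.of G
  obtain ⟨e⟩ := ExtShLib.nonempty_extSh_iso I F i
  obtain ⟨e'⟩ := ExtShLib.nonempty_extSh_iso I (CohB1.tensorMod F L) i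
  let D := homMod L (Coh.structureModule X)
  have hD : FlatMod.IsFinLocFree D :=
    CohCmpLib.isFinLocFree_homMod hL (S1063.isFinLocFree_structureModule X)
  haveI := ProjFormLib.preservesHomology_tens hD
  let S := (DCoh.tensorBi (X := X)).flip.obj D
  let τ : (DCoh.tensorBi (X := X)).obj D ≅ S := (ExtShLib.flipIso D).symm
  haveI : PreservesBinaryBiproducts ((DCoh.tensorBi (X := X)).obj D) := by
    haveI : ((DCoh.tensorBi (X := X)).obj D).IsLeftAdjoint := (HomCohLib.homAdj D).isLeftAdjoint
    exact preservesBinaryBiproducts_of_preservesBinaryCoproducts _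
  haveI : ((DCoh.tensorBi (X := X)).obj D).Additive := Functor.additive_of_preservesBinaryBiproducts _
  haveI : S.Additive := Functor.additive_of_iso τ
  haveI : S.PreservesHomology := (S.exact_tfae.out 0 2 rfl rfl).mp fun Sc h =>
    ShortComplex.shortExact_of_iso (Sc.mapNatIso τ) (ProjFormLib.shortExact_tens hD h)
  let ν : homFun F ⋙ S ≅ homFun (CohB1.tensorMod F L) :=
    Functor.isoWhiskerLeft (homFun F) (dualTensIso hL) ≪≫ homTensIso F L
  let β : (S.mapHomologicalComplex _).obj (ExtShLib.hcx F I) ≅ ExtShLib.hcx (CohB1.tensorMod F L) I :=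
    HomologicalComplex.Hom.isoOfComponents (fun k => ν.app (I.cocomplex.X k))
      fun k l _ => (ν.hom.naturality (I.cocomplex.d k l)).symm
  let a := e' ≪≫ (HomologicalComplex.homologyFunctor _ (ComplexShape.up ℕ) i).mapIso β.symm ≪≫
    ((ExtShLib.hcx F I).sc i).mapHomologyIso S ≪≫ S.mapIso e.symm
  exact ⟨a ≪≫ ((DCoh.tensorBi (X := X)).obj _).mapIso ((ExtShLib.shIso L).app _).symm⟩

end Groth.Agent.HomLocFreeLib
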